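import Groth.Agent.AlgSpLib.GpdBasic
import Groth.Agent.AlgSpLib.LocPMore
import Groth.Agent.SpQS.BiratDense
import Groth.Prelude.Def_AlgSpCov

/-!
Largest opens over which a morphism to the objects of a groupoid has a property local for the source and target
topology are invariant, as soon as the two pullbacks to the arrows are isomorphic.
-/

set_option backward.isDefEq.respectTransparency false

universe u

open CategoryTheory CategoryTheory.Limits AlgebraicGeometry Opposite
open AlgSp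

namespace Groth.Agent.GpdLargest

open Groth.Agent.AlgSpLib

variable {S : Scheme.{u}}

theorem largest_of_cover {B : Sp S} (G : GroupoidSp B) (hU : IsAlgSpace G.U) (hR : IsAlgSpace G.R)
    (P₁ : MorphismProperty (Sp S))
    (hbc : ∀ {F F' H H' : Sp S} (_ : IsAlgSpace F) (_ : IsAlgSpace H) (_ : IsAlgSpace F') (_ : IsAlgSpace H')
      {f : F ⟶ H} {g : H' ⟶ H} {fst : F' ⟶ F} {f' : F' ⟶ H'}, IsPullback fst f' f g → P₁ f → P₁ f')
    (hcomp : ∀ {F H K : Sp S} (_ : IsAlgSpace H) (_ : IsAlgSpace K) {f : F ⟶ H} {g : H ⟶ K},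
      P₁ f → P₁ g → P₁ (f ≫ g))
    (het : ∀ {F H : Sp S} (_ : IsAlgSpace H) {f : F ⟶ H}, LocP @Etale f → P₁ f)
    (hopen : ∀ {F H : Sp S} (_ : IsAlgSpace F) (_ : IsAlgSpace H) {f : F ⟶ H}, P₁ f → IsOpenMap (Points.map f))
    (τ : CovNotion S) (hτ : τ = fun _ _ Y g => IsCover P₁ Y g)
    (P : MorphismProperty (Sp S)) (hP : IsLocalOnBase τ P)
    (hs : τ (fun _ : PUnit.{u + 1} => G.R) (fun _ => G.s)) (ht : τ (fun _ : PUnit.{u + 1} => G.R) (fun _ => G.t))
    {X Q : Sp S} (hX : IsAlgSpace X) {f : X ⟶ G.U} {a b : Q ⟶ X} {p : Q ⟶ G.R}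
    (ha : IsPullback a p f G.t) (hb : IsPullback b p f G.s)
    {W : Sp S} (hWsp : IsAlgSpace W) (w : W ⟶ G.U) (hw : RepWith @IsOpenImmersion w)
    (hmax : ∀ (W' : Sp S) (w' : W' ⟶ G.U), IsAlgSpace W' → RepWith @IsOpenImmersion w' →
      (P (pullback.snd f w') ↔ ∃ k : W' ⟶ W, k ≫ w = w')) :
    G.IsInvariant w := by
  subst hτ
  have hQ : IsAlgSpace Q := isAlgSpace_of_isPullback_space hU hX hR ha
  have sqO := IsPullback.of_hasPullback G.t w
  have hO : IsAlgSpace (pullback G.t w) := isAlgSpace_of_isPullback_space hU hR hWsp sqO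
  have hoR : RepWith @IsOpenImmersion (pullback.fst G.t w) := repWith_baseChange sqO.flip hw
  have hoRe : LocP @Etale (pullback.fst G.t w) := (isEtaleMor_iff_locP hR).1 (isEtaleMor_of_repWith'
    (repWith_mono (fun _ _ r hr => by
      have : IsOpenImmersion r := hr
      exact (inferInstance : Etale r)) hoR))
  have hc : P₁ (pullback.fst G.t w ≫ G.s) := hcomp hR hU (het hR hoRe) (hs.1 ⟨⟩)
  have hV : IsOpen (Set.range (Points.map (pullback.fst G.t w ≫ G.s))) := (hopen hO hU hc).isOpen_range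
  let V := Set.range (Points.map (pullback.fst G.t w ≫ G.s))
  have hVa : IsAlgSpace (subSheaf V) := isAlgSpace_subSheaf hU hV
  have := SpQS.mono_of_openImm (repWith_subInc hV : RepWith @IsOpenImmersion (subInc V))
  obtain ⟨l, hl⟩ := exists_factor_subInc (W := V) (pullback.fst G.t w ≫ G.s) fun x => ⟨x, rfl⟩
  have sql : IsPullback (𝟙 _) l (pullback.fst G.t w ≫ G.s) (subInc V) := by
    refine isPullback_of_points (by rw [Category.id_comp, hl]) fun T x y e => ⟨x, ⟨Category.comp_id _, ?_⟩,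
      fun z hz => (Category.comp_id z).symm.trans hz.1⟩
    rw [← cancel_mono (subInc V), Category.assoc, hl, e]
  -- the piece over `W`
  have sqW := IsPullback.of_hasPullback f w
  have hXW : IsAlgSpace (pullback f w) := isAlgSpace_of_isPullback_space hU hX hWsp sqW
  have hPW : P (pullback.snd f w) := (hmax W w hWsp hw).2 ⟨𝟙 W, Category.id_comp w⟩
  have sqQ := IsPullback.of_hasPullback p (pullback.fst G.t w)
  have hQO : IsAlgSpace (pullback p (pullback.fst G.t w)) := isAlgSpace_of_isPullback_space hR hQ hO sqQ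
  have sqbW := sqQ.paste_horiz ha
  have hcovW : IsCover P₁ (fun _ : PUnit.{u + 1} => pullback G.t w) (fun _ => pullback.snd G.t w) := by
    refine ⟨fun _ => hbc hR hU hO hWsp sqO (ht.1 ⟨⟩), fun x => ⟨⟨⟩, ?_⟩⟩
    obtain ⟨⟨⟩, y, hy⟩ := ht.2 (Points.map w x)
    obtain ⟨z, -, hz⟩ := exists_point_of_isPullback sqO y x hy
    exact ⟨z, hz⟩
  let eW := sqW.lift (pullback.fst p (pullback.fst G.t w) ≫ a) (pullback.snd p (pullback.fst G.t w) ≫ pullback.snd G.t w)
    (by rw [sqbW.w, Category.assoc, pullback.condition])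
  have sqeW : IsPullback eW (pullback.snd p (pullback.fst G.t w)) (pullback.snd f w) (pullback.snd G.t w) := by
    refine IsPullback.of_right ?_ (sqW.lift_snd _ _ _) sqW
    rw [sqW.lift_fst, ← pullback.condition]
    exact sqbW
  have hPQ : P (pullback.snd p (pullback.fst G.t w)) := (hP (fun _ : PUnit.{u + 1} => pullback G.t w)
    (fun _ => pullback.snd G.t w) hWsp (fun _ => hO) hcovW (pullback.snd f w) hXW
    (fun _ => pullback p (pullback.fst G.t w)) (fun _ => pullback.snd p (pullback.fst G.t w)) (fun _ => eW)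
    (fun _ => hQO) (fun _ => sqeW)).1 hPW ⟨⟩
  -- the piece over `V`
  have sqV := IsPullback.of_hasPullback f (subInc V)
  have hXV : IsAlgSpace (pullback f (subInc V)) := isAlgSpace_of_isPullback_space hU hX hVa sqV
  have hcovV : IsCover P₁ (fun _ : PUnit.{u + 1} => pullback G.t w) (fun _ => l) := by
    refine ⟨fun _ => hbc hO hU hO hVa sql hc, fun x => ⟨⟨⟩, ?_⟩⟩
    obtain ⟨y, hy⟩ := map_subInc_mem x
    obtain ⟨z, -, hz⟩ := exists_point_of_isPullback sql y x hy
    exact ⟨z, hz⟩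
  have sqbV := sqQ.paste_horiz hb
  let eV := sqV.lift (pullback.fst p (pullback.fst G.t w) ≫ b) (pullback.snd p (pullback.fst G.t w) ≫ l)
    (by rw [sqbV.w, Category.assoc, hl])
  have sqeV : IsPullback eV (pullback.snd p (pullback.fst G.t w)) (pullback.snd f (subInc V)) l := by
    refine IsPullback.of_right ?_ (sqV.lift_snd _ _ _) sqV
    rw [sqV.lift_fst, hl]
    exact sqbV
  have hPV : P (pullback.snd f (subInc V)) := (hP (fun _ : PUnit.{u + 1} => pullback G.t w) (fun _ => l) hVa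
    (fun _ => hO) hcovV (pullback.snd f (subInc V)) hXV (fun _ => pullback p (pullback.fst G.t w))
    (fun _ => pullback.snd p (pullback.fst G.t w)) (fun _ => eV) (fun _ => hQO) (fun _ => sqeV)).2 fun _ => hPQ
  obtain ⟨k, hk⟩ := (hmax _ (subInc V) hVa (repWith_subInc hV)).1 hPV
  have key : ∀ {T : Over S} (r : (yon S).obj T ⟶ G.R), (∃ c : (yon S).obj T ⟶ W, c ≫ w = r ≫ G.t) →
      ∃ c : (yon S).obj T ⟶ W, c ≫ w = r ≫ G.s := fun r ⟨c, hc⟩ =>
    ⟨sqO.lift r c hc.symm ≫ l ≫ k, by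
      rw [Category.assoc, Category.assoc, hk, hl, ← Category.assoc, sqO.lift_fst]⟩
  intro T r
  refine ⟨key r, fun h => ?_⟩
  have := key (r ≫ G.i) (by simpa [G.i_t] using h)
  simpa [G.i_s] using this

/-- the three topologies of the statements -/
theorem largest_invariant {B : Sp S} (G : GroupoidSp B) (hU : IsAlgSpace G.U) (hR : IsAlgSpace G.R)
    (τ : CovNotion S) (hτ : τ = IsFppfCover ∨ τ = IsEtCover ∨ τ = IsSmCover)
    (P : MorphismProperty (Sp S)) (hP : IsLocalOnBase τ P)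
    (hs : τ (fun _ : PUnit.{u + 1} => G.R) (fun _ => G.s)) (ht : τ (fun _ : PUnit.{u + 1} => G.R) (fun _ => G.t))
    {X Q : Sp S} (hX : IsAlgSpace X) {f : X ⟶ G.U} {a b : Q ⟶ X} {p : Q ⟶ G.R}
    (ha : IsPullback a p f G.t) (hb : IsPullback b p f G.s)
    {W : Sp S} (hWsp : IsAlgSpace W) (w : W ⟶ G.U) (hw : RepWith @IsOpenImmersion w)
    (hmax : ∀ (W' : Sp S) (w' : W' ⟶ G.U), IsAlgSpace W' → RepWith @IsOpenImmersion w' →
      (P (pullback.snd f w') ↔ ∃ k : W' ⟶ W, k ≫ w = w')) :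
    G.IsInvariant w := by
  have sm : ∀ ⦃A B : Scheme.{u}⦄ (g : A ⟶ B), Smooth g → Flat g ∧ LocallyOfFinitePresentation g := fun A B g h => by
    have := h
    exact ⟨inferInstance, inferInstance⟩
  rcases hτ with h | h | h
  · exact largest_of_cover G hU hR (fun _ _ f => LocP @Flat f ∧ LocP @LocallyOfFinitePresentation f)
      (fun h1 h2 h3 h4 _ _ _ _ sq hf => ⟨locP_baseChange etST_flat h1 h2 h3 h4 sq hf.1,
        locP_baseChange etST_lfp h1 h2 h3 h4 sq hf.2⟩)
      (fun h1 h2 _ _ hf hg => ⟨locP_comp etST_flat h1 h2 hf.1 hg.1, locP_comp etST_lfp h1 h2 hf.2 hg.2⟩)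
      (fun _ _ he => ⟨fun A B a b c ha hb e => etST_flat.of_etale _ (he a b c ha hb e),
        fun A B a b c ha hb e => etST_lfp.of_etale _ (he a b c ha hb e)⟩)
      (fun h1 h2 f hf => isOpenMap_map_of_flat_lfp h1 h2 f hf.1 hf.2) τ h P hP hs ht hX ha hb hWsp w hw hmax
  · exact largest_of_cover G hU hR IsEtaleMor
      (fun h1 h2 h3 h4 _ _ _ _ sq hf => (isEtaleMor_iff_locP h4).2
        (locP_baseChange etST_etale h1 h2 h3 h4 sq ((isEtaleMor_iff_locP h2).1 hf)))
      (fun h1 h2 _ _ hf hg => (isEtaleMor_iff_locP h2).2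
        (locP_comp etST_etale h1 h2 ((isEtaleMor_iff_locP h1).1 hf) ((isEtaleMor_iff_locP h2).1 hg)))
      (fun h1 _ he => (isEtaleMor_iff_locP h1).2 he)
      (fun h1 h2 f hf => isOpenMap_map_of_flat_lfp h1 h2 f
        (fun A B a b c ha hb e => etST_flat.of_etale _ ((isEtaleMor_iff_locP h2).1 hf a b c ha hb e))
        (fun A B a b c ha hb e => etST_lfp.of_etale _ ((isEtaleMor_iff_locP h2).1 hf a b c ha hb e)))
      τ h P hP hs ht hX ha hb hWsp w hw hmax
  · exact largest_of_cover G hU hR (LocP @Smooth)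
      (fun h1 h2 h3 h4 _ _ _ _ sq hf => locP_baseChange etST_smooth h1 h2 h3 h4 sq hf)
      (fun h1 h2 _ _ hf hg => locP_comp etST_smooth h1 h2 hf hg)
      (fun _ _ he => fun A B a b c ha hb e => etST_smooth.of_etale _ (he a b c ha hb e))
      (fun h1 h2 f hf => isOpenMap_map_of_flat_lfp h1 h2 f (fun A B a b c ha hb e => (sm _ (hf a b c ha hb e)).1)
        (fun A B a b c ha hb e => (sm _ (hf a b c ha hb e)).2))
      τ h P hP hs ht hX ha hb hWsp w hw hmax

end Groth.Agent.GpdLargest
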